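import Mathlib
import Cfsg.Agent.Lib.CosetTable.Check

/-! Generated certificate data for the coset table `ONLevel2`. -/

namespace Cfsg.Agent.Lib.CosetTable.ONLevel2

open Cfsg.Agent.Lib.CosetTable

set_option maxRecDepth 10000

noncomputable def facts : T := .leaf 0x4000022000004000021000000000020000000000002000000000001000000000005000000000004

noncomputable def defs : T := .leaf 0x0

noncomputable def nodeT : ℕ := 0x1000000

noncomputable def parT : ℕ := 0x0

noncomputable def perm0 : ℕ := 0x1

noncomputable def eid0 : ℕ := 0x4000004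

noncomputable def perm1 : ℕ := 0x10000

noncomputable def eid1 : ℕ := 0x5000002

noncomputable def perm2 : ℕ := 0x10000

noncomputable def eid2 : ℕ := 0x6000003

noncomputable def rulesT : RT := .node (.node (.leaf 1 [4] 12 0) (.leaf 1 [0, 1, 0] 1 0)) (.node (.leaf 2 [5] 13 0) (.leaf 2 [0, 2, 0] 2 0))

noncomputable def relsL : List (List ℕ) := [[0, 0],
  [0, 1, 0, 1],
  [0, 2, 0, 2],
  [1, 1],
  [1, 2, 1, 2, 1, 2],
  [2, 2]]

noncomputable def subsL : List (List ℕ) := [[1],
  [2]]

noncomputable def cert : Cert where
  k := 3
  rels := relsL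
  subs := subsL
  rules := rulesT
  facts := facts
  defs := defs

noncomputable def tab : Table where
  n := 2
  k := 3
  node := nodeT
  perms := [perm0, perm1, perm2]
  eids := [eid0, eid1, eid2]
  par := parT

end Cfsg.Agent.Lib.CosetTable.ONLevel2
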