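import Cfsg.Agent.Lib.CosetTable.Sound
import Cfsg.Agent.Lib.CosetTable.ONLevel2.Data

/-! Generated certificate data for the coset table `ONLevel2`. -/

namespace Cfsg.Agent.Lib.CosetTable.ONLevel2

open Cfsg.Agent.Lib.CosetTable

noncomputable def streams0 : List (ℕ × ℕ) := [(7, 0x8000006000009000003000005000008000004000009000003000004000000000000000002000001000003000000000001000002000000000001000000000001)]

theorem run0 : cert.goStreams streams0 0 = true := by decide +kernel

theorem part1 (h : cert.Upto 0) : cert.Upto 7 :=
  (h).step (b := 7) run0 rfl

end Cfsg.Agent.Lib.CosetTable.ONLevel2
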